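import Groth.Agent.H06Curve130.Core
import Mathlib

/-!
# Normalizations at a finite level
-/

set_option autoImplicit false
set_option linter.style.haveILetI false
set_option backward.isDefEq.respectTransparency false

universe u

open CategoryTheory AlgebraicGeometry TensorProduct

namespace Groth.Agent.H06Curve130

variable (k : Type u) [Field k] (A : Type u) [CommRing A] [Algebra k A] [Algebra.FiniteType k A]

/-- The model over a field of coefficients, in abstract form. -/
theorem exists_model {E L B : Type u} [CommRing E] [CommRing L] [CommRing B] [Algebra E L] [Algebra L B] [Algebra E B]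
    [IsScalarTower E L B] {n r : ℕ} (P : Algebra.Presentation L B (Fin n) (Fin r)) [P.HasCoeffs E] :
    ∃ (M : Type u) (_ : CommRing M) (_ : Algebra E M) (e : L ⊗[E] M ≃ₐ[L] B) (x : Fin n → M),
      Algebra.FiniteType E M ∧ Algebra.adjoin E (Set.range x) = ⊤ ∧
      ∀ y : MvPolynomial (Fin n) E, e ((1 : L) ⊗ₜ MvPolynomial.aeval x y) = MvPolynomial.aeval P.val y := by
  refine ⟨P.ModelOfHasCoeffs E, inferInstance, inferInstance, P.tensorModelOfHasCoeffsEquiv E,
    fun i => Ideal.Quotient.mk _ (MvPolynomial.X i), inferInstance, ?_, fun y => ?_⟩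
  · rw [eq_top_iff]
    intro m _
    obtain ⟨y, rfl⟩ := Ideal.Quotient.mk_surjective m
    induction y using MvPolynomial.induction_on with
    | C c => exact Subalgebra.algebraMap_mem _ c
    | add p q hp hq => rw [map_add]; exact add_mem (hp trivial) (hq trivial)
    | mul_X p i hp => rw [map_mul]; exact mul_mem (hp trivial) (Algebra.subset_adjoin ⟨i, rfl⟩)
  · have h : MvPolynomial.aeval (fun i => Ideal.Quotient.mk
        (Ideal.span <| Set.range (P.relationOfHasCoeffs E)) (MvPolynomial.X i)) y = Ideal.Quotient.mkₐ E _ y :=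
      DFunLike.congr_fun (MvPolynomial.algHom_ext fun i => by rw [MvPolynomial.aeval_X]; rfl) y
    rw [h, Ideal.Quotient.mkₐ_eq_mk, P.tensorModelOfHasCoeffsEquiv_tmul, map_one, one_mul]

set_option maxHeartbeats 1000000 in
/-- The finite level for an abstract smooth normal model over the big field. -/
theorem exists_level_of_model (L : Type u) [Field L] [Algebra k L] (B : Type u) [CommRing B] [IsDomain B]
    [IsIntegrallyClosed B] [Algebra L B] [Algebra.FinitePresentation L B]
    (hsm : Smooth (Spec.map (CommRingCat.ofHom (algebraMap L B))))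
    (θR : L ⊗[k] A →ₐ[L] B) (hker : ∀ r, θR r = 0 ↔ IsNilpotent r)
    (hfr : ∀ b : B, ∃ num den : L ⊗[k] A, θR den ≠ 0 ∧ b * θR den = θR num)
    (hint : ∀ b : B, ∃ q : Polynomial (L ⊗[k] A), q.Monic ∧ q.eval₂ θR.toRingHom b = 0) :
    ∃ S : Finset L, ∀ E : IntermediateField k L, (S : Set L) ⊆ E →
      ∀ (T K : Type u) [CommRing T] [IsDomain T] [Field K] [Algebra T K] [IsFractionRing T K]
        (π : E ⊗[k] A →+* T), Function.Surjective π → (∀ r, π r = 0 ↔ IsNilpotent r) →
        ((algebraMap T (integralClosure T K)).comp (π.comp Algebra.TensorProduct.includeLeftRingHom)).Smooth := by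
  classical
  let R := L ⊗[k] A
  haveI : Nontrivial R := θR.toRingHom.domain_nontrivial
  let P := Algebra.Presentation.ofFinitePresentation L B
  let n := Algebra.Presentation.ofFinitePresentationVars L B
  choose num den hden hfr using fun i : Fin n => hfr (P.val i)
  choose qi hqi hqi0 using fun i : Fin n => hint (P.val i)
  obtain ⟨sA, hsA⟩ := Algebra.FiniteType.out (R := k) (A := A)
  have hgen : ∀ a : A, ∃ g : MvPolynomial (Fin n) L, MvPolynomial.aeval P.val g = θR (1 ⊗ₜ a) := fun a =>
    ⟨P.σ (θR (1 ⊗ₜ a)), P.aeval_val_σ _⟩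
  choose ga hga using hgen
  choose Sn hSn using fun i => exists_mem_range k A L (num i)
  choose Sd hSd using fun i => exists_mem_range k A L (den i)
  choose Sq hSq using fun (i : Fin n) (j : ℕ) => exists_mem_range k A L ((qi i).coeff j)
  let S : Finset L := P.finite_coeffs.toFinset ∪ Finset.univ.biUnion Sn ∪ Finset.univ.biUnion Sd ∪
    Finset.univ.biUnion (fun i => (Finset.range ((qi i).natDegree + 1)).biUnion (Sq i)) ∪
    sA.biUnion (fun a => (ga a).coeffs)
  refine ⟨S, fun E hE T K _ _ _ _ _ π hπ hπk => ?_⟩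
  simp only [S, Finset.coe_union, Set.union_subset_iff, Finset.coe_biUnion, Set.iUnion_subset_iff,
    Set.Finite.coe_toFinset, Finset.mem_coe, Finset.mem_univ, forall_true_left] at hE
  obtain ⟨⟨⟨⟨hPc, hEn⟩, hEd⟩, hEq⟩, hEa⟩ := hE
  letI algEB : Algebra E B := ((algebraMap L B).comp (algebraMap E L)).toAlgebra
  haveI : @IsScalarTower E L B _ _ algEB.toSMul := @IsScalarTower.of_algebraMap_eq E L B _ _ _ _ _ algEB fun _ => rfl
  haveI : P.HasCoeffs E := ⟨fun c hc => ⟨⟨c, hPc hc⟩, rfl⟩⟩
  obtain ⟨M, _, _, e, x, _, hadj, hex⟩ := exists_model (E := E) P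
  let μ : M →ₐ[E] B := (e.restrictScalars E).toAlgHom.comp
    (Algebra.TensorProduct.includeRight : M →ₐ[E] L ⊗[E] M)
  have hμ : Function.Injective μ :=
    e.injective.comp (Algebra.TensorProduct.includeRight_injective (algebraMap E L).injective)
  haveI : IsDomain M := hμ.isDomain μ.toRingHom
  have hμv : ∀ y, μ (MvPolynomial.aeval x y) = MvPolynomial.aeval P.val y := hex
  -- the finite level inside the large one
  let ι : E ⊗[k] A →ₐ[k] R := Algebra.TensorProduct.map E.val (AlgHom.id k A)
  have hι : Function.Injective ι := by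
    have h1 : Function.Injective (LinearMap.rTensor A E.val.toLinearMap) :=
      Module.Flat.rTensor_preserves_injective_linearMap _ Subtype.val_injective
    exact h1
  let θ : E ⊗[k] A →+* B := θR.toRingHom.comp ι.toRingHom
  have hθker : ∀ r, θ r = 0 ↔ IsNilpotent r := fun r => by
    show θR (ι r) = 0 ↔ _
    rw [hker]
    exact ⟨fun ⟨n, hn⟩ => ⟨n, hι (((ι.toRingHom.map_pow r n).trans hn).trans ι.toRingHom.map_zero.symm)⟩, fun h => h.map ι.toRingHom⟩
  have hle : ∀ r, π r = 0 → θ r = 0 := fun r hr => (hθker r).2 ((hπk r).1 hr)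
  let sec := Function.surjInv hπ
  have hsec : ∀ r, θ (sec (π r)) = θ r := fun r => by
    rw [← sub_eq_zero, ← map_sub]
    exact hle _ (by rw [map_sub, Function.surjInv_eq hπ, sub_self])
  let lam : T →+* B :=
    { toFun := fun t => θ (sec t)
      map_one' := by rw [← map_one π, hsec, map_one]
      map_zero' := by rw [← map_zero π, hsec, map_zero]
      map_mul' := fun a b => by
        obtain ⟨a, rfl⟩ := hπ a
        obtain ⟨b, rfl⟩ := hπ b
        rw [← map_mul, hsec, hsec, hsec, map_mul]
      map_add' := fun a b => by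
        obtain ⟨a, rfl⟩ := hπ a
        obtain ⟨b, rfl⟩ := hπ b
        rw [← map_add, hsec, hsec, hsec, map_add] }
  have hlam : ∀ r, lam (π r) = θ r := hsec
  have hlaminj : Function.Injective lam := (injective_iff_map_eq_zero _).2 fun t ht => by
    obtain ⟨r, rfl⟩ := hπ t
    rw [hlam, hθker, ← hπk] at ht
    exact ht
  have hEθ : ∀ c : E, θ (c ⊗ₜ 1) = algebraMap E B c := fun c => by
    show θR ((c : L) ⊗ₜ[k] (1 : A)) = _
    exact θR.commutes (c : L)
  have hrange : ∀ r, θ r ∈ μ.range := by
    intro r
    induction r using TensorProduct.induction_on with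
    | zero => rw [map_zero]; exact zero_mem _
    | add x y hx hy => rw [map_add]; exact add_mem hx hy
    | tmul c a =>
      rw [show c ⊗ₜ[k] a = (c ⊗ₜ[k] (1 : A)) * (1 ⊗ₜ[k] a) by simp, map_mul]
      refine mul_mem ?_ ?_
      · rw [hEθ]; exact μ.range.algebraMap_mem c
      · have ha : a ∈ Algebra.adjoin k (sA : Set A) := hsA ▸ Algebra.mem_top
        induction ha using Algebra.adjoin_induction with
        | mem g hg =>
          have hc : ↑(ga g).coeffs ⊆ Set.range (algebraMap E L) := fun c hc => ⟨⟨c, hEa g hg hc⟩, rfl⟩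
          obtain ⟨g', hg'⟩ := MvPolynomial.mem_range_map_iff_coeffs_subset.2 hc
          refine ⟨MvPolynomial.aeval x g', ?_⟩
          show μ (MvPolynomial.aeval x g') = θR (ι ((1 : E) ⊗ₜ g))
          rw [hμv, ← MvPolynomial.aeval_map_algebraMap L, hg', hga]
          rfl
        | algebraMap r =>
          rw [show (1 : E) ⊗ₜ[k] algebraMap k A r = algebraMap k E r ⊗ₜ[k] (1 : A) by
            rw [Algebra.algebraMap_eq_smul_one, Algebra.algebraMap_eq_smul_one, TensorProduct.smul_tmul], hEθ]
          exact μ.range.algebraMap_mem _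
        | add x y _ _ hx hy => rw [tmul_add, map_add]; exact add_mem hx hy
        | mul x y _ _ hx hy =>
          rw [show (1 : E) ⊗ₜ[k] (x * y) = ((1 : E) ⊗ₜ[k] x) * ((1 : E) ⊗ₜ[k] y) by simp, map_mul]
          exact mul_mem hx hy
  let μe : M ≃+* μ.toRingHom.range := RingEquiv.ofBijective μ.toRingHom.rangeRestrict
    ⟨fun x y h => hμ (congrArg Subtype.val h), μ.toRingHom.rangeRestrict_surjective⟩
  let ν : T →+* M := μe.symm.toRingHom.comp (lam.codRestrict _ fun t => by
    obtain ⟨r, rfl⟩ := hπ t
    rw [hlam]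
    exact hrange r)
  have hν : ∀ t, μ (ν t) = lam t := fun t => congrArg Subtype.val (μe.apply_symm_apply _)
  letI : Algebra T M := ν.toAlgebra
  have hνinj : Function.Injective (algebraMap T M) := fun a b h =>
    hlaminj (by rw [← hν, ← hν]; exact congrArg μ h)
  let G : Set M := Set.range x
  have hET : ∀ c : E, algebraMap T M (π (c ⊗ₜ 1)) = algebraMap E M c := fun c => hμ (by
    rw [μ.commutes]
    exact (hν _).trans ((hlam _).trans (hEθ c)))
  have hG : Algebra.adjoin T G = ⊤ := by
    rw [eq_top_iff]
    intro m _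
    have hm : m ∈ Algebra.adjoin E G := hadj ▸ Algebra.mem_top
    induction hm using Algebra.adjoin_induction with
    | mem g hg => exact Algebra.subset_adjoin hg
    | algebraMap c => rw [← hET]; exact Subalgebra.algebraMap_mem _ _
    | add p q _ _ hp hq => exact add_mem (hp trivial) (hq trivial)
    | mul p q _ _ hp hq => exact mul_mem (hp trivial) (hq trivial)
  have hX : ∀ i, μ (x i) = P.val i := fun i => by
    have h := hμv (MvPolynomial.X i)
    rwa [MvPolynomial.aeval_X, MvPolynomial.aeval_X] at h
  have hfrac : ∀ g ∈ G, ∃ a b : T, b ≠ 0 ∧ g * algebraMap T M b = algebraMap T M a := by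
    rintro _ ⟨i, rfl⟩
    obtain ⟨num', hnum⟩ := hSn i E (hEn i)
    obtain ⟨den', hden'⟩ := hSd i E (hEd i)
    have hθd : θ den' = θR (den i) := congrArg θR hden'
    refine ⟨π num', π den', fun h => hden i (by rw [← hθd, ← hlam, h, map_zero]), hμ ?_⟩
    rw [map_mul, hX]
    show P.val i * μ (ν _) = μ (ν _)
    rw [hν, hν, hlam, hlam, hθd]
    exact (hfr i).trans (congrArg θR hnum).symm
  haveI : IsFractionRing T (FractionRing M) := isFractionRing_of_generators hνinj G hG hfrac
  haveI : Algebra.IsIntegral T M := by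
    refine ⟨fun m => ?_⟩
    have hm : m ∈ Algebra.adjoin T G := hG ▸ Algebra.mem_top
    refine (Algebra.adjoin_le (S := integralClosure T M) ?_) hm
    rintro _ ⟨i, rfl⟩
    have hl : qi i ∈ Polynomial.lifts ι.toRingHom := by
      rw [Polynomial.lifts_iff_coeff_lifts]
      intro j
      by_cases hj : j ∈ Finset.range ((qi i).natDegree + 1)
      · exact hSq i j E (hEq i j hj)
      · exact ⟨0, by rw [map_zero, Polynomial.coeff_eq_zero_of_natDegree_lt (by simpa using hj)]⟩
    obtain ⟨q', hq', -, hmon⟩ := Polynomial.lifts_and_degree_eq_and_monic hl (hqi i)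
    refine ⟨q'.map π, hmon.map _, hμ ?_⟩
    have hhom : μ.toRingHom.comp ((algebraMap T M).comp π) = θ := RingHom.ext fun r => (hν _).trans (hlam r)
    show μ.toRingHom (Polynomial.eval₂ _ _ _) = μ 0
    rw [Polynomial.hom_eval₂, Polynomial.eval₂_map, RingHom.comp_assoc, hhom, map_zero]
    show Polynomial.eval₂ (θR.toRingHom.comp ι.toRingHom) (μ _) q' = 0
    rw [hX, ← Polynomial.eval₂_map, hq', hqi0]
  haveI : IsIntegrallyClosed M := isIntegrallyClosed_of_baseChange E L M B e
  haveI : IsIntegralClosure M T (FractionRing M) := IsIntegralClosure.of_isIntegrallyClosed _ _ _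
  let eK : K ≃ₐ[T] FractionRing M := IsLocalization.algEquiv (nonZeroDivisors T) K (FractionRing M)
  let Φ : M ≃ₐ[T] integralClosure T K :=
    (IsIntegralClosure.equiv T M (FractionRing M) (integralClosure T (FractionRing M))).trans eK.mapIntegralClosure.symm
  have hs : (algebraMap E M).Smooth := smooth_of_baseChange E L M B e hsm
  have hfac : (algebraMap T (integralClosure T K)).comp (π.comp Algebra.TensorProduct.includeLeftRingHom) =
      Φ.toRingEquiv.toRingHom.comp (algebraMap E M) := RingHom.ext fun c => by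
    show algebraMap T _ (π (c ⊗ₜ 1)) = Φ (algebraMap E M c)
    rw [← hET, AlgEquiv.commutes]
  rw [hfac]
  exact RingHom.Smooth.respectsIso.1 _ _ hs

variable [IsDomain A] [Ring.KrullDimLE 1 A]

set_option maxHeartbeats 1000000 in
theorem exists_level (L : Type u) [Field L] [Algebra k L] [IsPurelyInseparable k L] [PerfectField L] :
    ∃ S : Finset L, ∀ E : IntermediateField k L, (S : Set L) ⊆ E →
      ∀ (T K : Type u) [CommRing T] [IsDomain T] [Field K] [Algebra T K] [IsFractionRing T K]
        (π : E ⊗[k] A →+* T), Function.Surjective π → (∀ r, π r = 0 ↔ IsNilpotent r) →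
        ((algebraMap T (integralClosure T K)).comp (π.comp Algebra.TensorProduct.includeLeftRingHom)).Smooth := by
  classical
  let R := L ⊗[k] A
  have hhom : IsHomeomorph (PrimeSpectrum.comap (algebraMap A (A ⊗[k] L))) :=
    PrimeSpectrum.isHomeomorph_comap_of_isPurelyInseparable k L A
  have hcomm := PrimeSpectrum.isHomeomorph_comap_of_bijective (Algebra.TensorProduct.comm k A L).bijective
  have hhR : IsHomeomorph (fun p : PrimeSpectrum R => PrimeSpectrum.comap (algebraMap A (A ⊗[k] L))
      (PrimeSpectrum.comap (Algebra.TensorProduct.comm k A L).toRingEquiv.toRingHom p)) := hhom.comp hcomm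
  haveI : IrreducibleSpace (PrimeSpectrum R) :=
    Function.Surjective.irreducibleSpace hhR.homeomorph.symm.continuous hhR.homeomorph.symm.surjective
  haveI hN : (nilradical R).IsPrime := PrimeSpectrum.irreducibleSpace_iff_isPrime_nilradical.1 inferInstance
  let R' := R ⧸ nilradical R
  haveI hdimR : Ring.KrullDimLE 1 R := Ring.krullDimLE_iff.2 (by
    rw [← PrimeSpectrum.topologicalKrullDim_eq_ringKrullDim, IsHomeomorph.topologicalKrullDim_eq _ hhR,
      PrimeSpectrum.topologicalKrullDim_eq_ringKrullDim]
    exact Ring.krullDimLE_iff.1 inferInstance)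
  haveI : Ring.KrullDimLE 1 R' := Ring.krullDimLE_iff.2 ((ringKrullDim_quotient_le _).trans (Ring.krullDimLE_iff.1 hdimR))
  haveI : Ring.DimensionLEOne R' := ⟨fun {q} hq hqp => Ideal.IsPrime.isMaximal_of_ne_bot hqp hq⟩
  haveI : Algebra.FiniteType L R := inferInstance
  haveI : Algebra.FiniteType L R' := Algebra.FiniteType.of_surjective (Ideal.Quotient.mkₐ L _) Ideal.Quotient.mk_surjective
  let Q := FractionRing R'
  let B := integralClosure R' Q
  haveI : Module.Finite R' B := Groth.Agent.S10862.result L R' Q Q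
  haveI : Algebra.FiniteType L B := Algebra.FiniteType.trans (S := R') inferInstance inferInstance
  haveI : IsNoetherianRing R' := Algebra.FiniteType.isNoetherianRing L R'
  haveI : IsNoetherianRing B := IsNoetherianRing.of_finite R' B
  haveI : Ring.DimensionLEOne B := Ring.DimensionLEOne.integralClosure R' Q
  haveI : IsIntegrallyClosed B := integralClosure.isIntegrallyClosedOfFiniteExtension Q
  haveI : IsDedekindDomain B := {}
  have hsm : Smooth (Spec.map (CommRingCat.ofHom (algebraMap L B))) := smooth_dedekind L B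
  haveI : Algebra.FinitePresentation L B := Algebra.FinitePresentation.of_finiteType.1 inferInstance
  let θR : R →ₐ[L] B := (IsScalarTower.toAlgHom L R' B).comp (Ideal.Quotient.mkₐ L _)
  have hinjB : Function.Injective (algebraMap R' B) := fun a b h =>
    IsFractionRing.injective R' Q (congrArg Subtype.val h)
  refine exists_level_of_model k A L B hsm θR (fun r => ?_) (fun b => ?_) (fun b => ?_)
  · show algebraMap R' B (Ideal.Quotient.mk _ r) = 0 ↔ _
    rw [map_eq_zero_iff _ hinjB, Ideal.Quotient.eq_zero_iff_mem, mem_nilradical]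
  · obtain ⟨a, c, hc, hac⟩ := IsFractionRing.div_surjective (A := R') (b : Q)
    obtain ⟨a, rfl⟩ := Ideal.Quotient.mk_surjective a
    obtain ⟨c, rfl⟩ := Ideal.Quotient.mk_surjective c
    have hc0 : algebraMap R' Q (Ideal.Quotient.mk _ c) ≠ 0 := IsFractionRing.to_map_ne_zero_of_mem_nonZeroDivisors hc
    refine ⟨a, c, fun h => hc0 (congrArg Subtype.val h), Subtype.ext ?_⟩
    show (b : Q) * algebraMap R' Q (Ideal.Quotient.mk _ c) = algebraMap R' Q (Ideal.Quotient.mk _ a)
    rw [← hac, div_mul_cancel₀ _ hc0]
  · obtain ⟨q, hq, hq0⟩ := (Algebra.IsIntegral.of_finite R' B).isIntegral b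
    have hl : q ∈ Polynomial.lifts (Ideal.Quotient.mk (nilradical R)) :=
      (Polynomial.mem_lifts q).2 (Polynomial.map_surjective _ Ideal.Quotient.mk_surjective q)
    obtain ⟨q', hq', -, hmon⟩ := Polynomial.lifts_and_degree_eq_and_monic hl hq
    refine ⟨q', hmon, ?_⟩
    rw [← hq', Polynomial.eval₂_map] at hq0
    exact hq0

end Groth.Agent.H06Curve130
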