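import Groth.Agent.S1561
import Groth.Agent.S10862
import Groth.Agent.H17.LocusBC
import Mathlib

/-!
# The normalization of a curve becomes smooth after a finite purely inseparable extension: affine case
-/

set_option autoImplicit false
set_option linter.style.haveILetI false
set_option backward.isDefEq.respectTransparency false

universe u

open CategoryTheory CategoryTheory.Limits AlgebraicGeometry TensorProduct

namespace Groth.Agent.H06Curve130

/-- A localization of a Dedekind domain at a prime is regular. -/
theorem isRegularLocalRing_localization (B : Type u) [CommRing B] [IsDedekindDomain B] (p : Ideal B) [p.IsPrime]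
    (S : Type u) [CommRing S] [Algebra B S] [IsLocalization.AtPrime S p] : IsRegularLocalRing S := by
  have hM : p.primeCompl ≤ nonZeroDivisors B := p.primeCompl_le_nonZeroDivisors
  haveI : IsDomain S := IsLocalization.isDomain_of_le_nonZeroDivisors _ hM
  haveI : IsLocalRing S := IsLocalization.AtPrime.isLocalRing S p
  haveI : IsDedekindDomain S := IsLocalization.isDedekindDomain B hM S
  haveI : IsPrincipalIdealRing S := IsPrincipalIdealRing.of_finite_maximals
    ((Set.finite_singleton (IsLocalRing.maximalIdeal S)).subset fun I hI => IsLocalRing.eq_maximalIdeal hI)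
  infer_instance

/-- A Dedekind domain of finite type over a perfect field is smooth. -/
theorem smooth_dedekind (L B : Type u) [Field L] [PerfectField L] [CommRing B] [IsDedekindDomain B] [Algebra L B]
    [Algebra.FiniteType L B] : Smooth (Spec.map (CommRingCat.ofHom (algebraMap L B))) := by
  let X := Spec (CommRingCat.of B)
  let f : X ⟶ Spec (CommRingCat.of L) := Spec.map (CommRingCat.ofHom (algebraMap L B))
  letI : X.Over (Spec (CommRingCat.of L)) := ⟨f⟩
  haveI : IsNoetherianRing B := inferInstance
  haveI hlfp : LocallyOfFinitePresentation (X ↘ Spec (CommRingCat.of L)) :=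
    (HasRingHomProperty.Spec_iff (P := @LocallyOfFinitePresentation)).2
      (RingHom.finitePresentation_algebraMap.2 (Algebra.FinitePresentation.of_finiteType.1 inferInstance))
  haveI : IsReduced X := inferInstance
  haveI : LocallyOfFinitePresentation f := hlfp
  rw [← Scheme.Hom.smoothLocus_eq_top_iff]
  refine TopologicalSpace.Opens.ext (Set.eq_univ_of_forall fun x => ((Groth.Agent.S1561.result L X).1 x).2 ?_)
  letI : Algebra B (X.presheaf.stalk x) := StructureSheaf.stalkAlgebra B x
  haveI : IsLocalization.AtPrime (X.presheaf.stalk x) x.asIdeal := StructureSheaf.IsLocalization.to_stalk B x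
  exact isRegularLocalRing_localization B x.asIdeal (X.presheaf.stalk x)

/-- Smoothness descends along a field extension. -/
theorem smooth_of_baseChange (E L M B : Type u) [Field E] [Field L] [Algebra E L] [CommRing M] [Algebra E M]
    [Algebra.FiniteType E M] [CommRing B] [Algebra L B] (e : L ⊗[E] M ≃ₐ[L] B)
    (h : Smooth (Spec.map (CommRingCat.ofHom (algebraMap L B)))) :
    (algebraMap E M).Smooth := by
  let f := Spec.map (CommRingCat.ofHom (algebraMap E M))
  let g := Spec.map (CommRingCat.ofHom (algebraMap E L))
  haveI : LocallyOfFinitePresentation f :=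
    (HasRingHomProperty.Spec_iff (P := @LocallyOfFinitePresentation)).2
      (RingHom.finitePresentation_algebraMap.2 (Algebra.FinitePresentation.of_finiteType.1 inferInstance))
  haveI : Flat g := (HasRingHomProperty.Spec_iff (P := @Flat)).2 (RingHom.flat_algebraMap_iff.2 inferInstance)
  haveI : Surjective g := ⟨fun x => ⟨(default : PrimeSpectrum L), Subsingleton.elim (α := PrimeSpectrum E) _ _⟩⟩
  have hp := (isPullback_SpecMap_of_isPushout _ _ _ _ (CommRingCat.isPushout_tensorProduct E L M)).flip
  let f' : Spec (CommRingCat.of (L ⊗[E] M)) ⟶ Spec (CommRingCat.of L) :=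
    Spec.map (CommRingCat.ofHom Algebra.TensorProduct.includeLeftRingHom)
  haveI : Smooth f' := by
    have he : f' = Spec.map e.toRingEquiv.toCommRingCatIso.inv ≫ Spec.map (CommRingCat.ofHom (algebraMap L B)) := by
      rw [← Spec.map_comp]
      refine congrArg Spec.map (CommRingCat.hom_ext (RingHom.ext fun l => ?_))
      exact (e.symm.commutes l).symm
    rw [he]
    haveI := h
    infer_instance
  haveI := MorphismProperty.of_isPullback hp ‹LocallyOfFinitePresentation f›
  refine (HasRingHomProperty.Spec_iff (P := @Smooth) (φ := CommRingCat.ofHom (algebraMap E M))).1 ?_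
  rw [← Scheme.Hom.smoothLocus_eq_top_iff]
  refine TopologicalSpace.Opens.ext (Set.eq_univ_of_forall fun x => ?_)
  let g' := Spec.map (CommRingCat.ofHom (Algebra.TensorProduct.includeRight : M →ₐ[E] L ⊗[E] M).toRingHom)
  haveI : Surjective g' := MorphismProperty.of_isPullback hp.flip inferInstance
  obtain ⟨y, rfl⟩ := g'.surjective x
  exact H17.LocusBC.mem_smoothLocus_of_flat_baseChange hp y (by
    rw [Scheme.Hom.smoothLocus_eq_top f']; trivial)

variable (k : Type u) [Field k] (A : Type u) [CommRing A] [Algebra k A]
  (L : Type u) [Field L] [Algebra k L]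

theorem exists_mem_range (r : L ⊗[k] A) : ∃ S : Finset L, ∀ E : IntermediateField k L, (S : Set L) ⊆ E →
    r ∈ Set.range (Algebra.TensorProduct.map E.val (AlgHom.id k A)) := by
  classical
  induction r using TensorProduct.induction_on with
  | zero => exact ⟨∅, fun E _ => ⟨0, map_zero _⟩⟩
  | tmul l a => exact ⟨{l}, fun E hE => ⟨(⟨l, hE (Finset.mem_singleton_self l)⟩ : E) ⊗ₜ a, by simp⟩⟩
  | add x y hx hy =>
    obtain ⟨S, hS⟩ := hx
    obtain ⟨T, hT⟩ := hy
    refine ⟨S ∪ T, fun E hE => ?_⟩
    rw [Finset.coe_union, Set.union_subset_iff] at hE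
    obtain ⟨x', rfl⟩ := hS E hE.1
    obtain ⟨y', rfl⟩ := hT E hE.2
    exact ⟨x' + y', map_add _ _ _⟩

/-- Normality descends along a field extension. -/
theorem isIntegrallyClosed_of_baseChange (E L M B : Type u) [Field E] [Field L] [Algebra E L] [CommRing M] [IsDomain M]
    [Algebra E M] [CommRing B] [IsDomain B] [IsIntegrallyClosed B] [Algebra L B] (e : L ⊗[E] M ≃ₐ[L] B) :
    IsIntegrallyClosed M := by
  let μ : M →+* B := e.toRingEquiv.toRingHom.comp (Algebra.TensorProduct.includeRight : M →ₐ[E] L ⊗[E] M).toRingHom
  have hμ : Function.Injective μ :=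
    e.injective.comp (Algebra.TensorProduct.includeRight_injective (algebraMap E L).injective)
  obtain ⟨r, hr⟩ := (Algebra.linearMap E L).exists_leftInverse_of_injective
    (LinearMap.ker_eq_bot.2 (algebraMap E L).injective)
  have hr1 : r 1 = 1 := by
    have := LinearMap.congr_fun hr 1
    simpa using this
  let rM : L ⊗[E] M →ₗ[E] M := (TensorProduct.lid E M).toLinearMap ∘ₗ r.rTensor M
  have hrM : ∀ (b : M) (c : L ⊗[E] M), rM ((1 : L) ⊗ₜ[E] b * c) = b * rM c := fun b c => by
    induction c using TensorProduct.induction_on with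
    | zero => simp
    | tmul l m => simp [rM, mul_smul_comm]
    | add x y hx hy => simp only [mul_add, map_add, hx, hy]
  refine (isIntegrallyClosed_iff (FractionRing M)).2 fun {x} hx => ?_
  obtain ⟨a, ⟨b, hb⟩, rfl⟩ := IsLocalization.exists_mk'_eq (nonZeroDivisors M) x
  have hb0 : b ≠ 0 := nonZeroDivisors.ne_zero hb
  let J : FractionRing M →+* FractionRing B :=
    IsFractionRing.lift (g := (algebraMap B (FractionRing B)).comp μ)
      ((IsFractionRing.injective B (FractionRing B)).comp hμ)
  have hJ : ∀ m, J (algebraMap M (FractionRing M) m) = algebraMap B (FractionRing B) (μ m) := fun m =>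
    IsFractionRing.lift_algebraMap _ _
  have hJx : _root_.IsIntegral B (J (IsLocalization.mk' (FractionRing M) a ⟨b, hb⟩)) := by
    obtain ⟨q, hq, hq0⟩ := hx
    refine ⟨q.map μ, hq.map μ, ?_⟩
    have hcomp : (algebraMap B (FractionRing B)).comp μ = J.comp (algebraMap M (FractionRing M)) :=
      RingHom.ext fun m => (hJ m).symm
    rw [Polynomial.eval₂_map, hcomp, ← Polynomial.hom_eval₂, hq0, map_zero]
  obtain ⟨c, hc⟩ := (isIntegrallyClosed_iff (FractionRing B)).1 inferInstance hJx
  have hc' : μ a = μ b * c := by
    refine IsFractionRing.injective B (FractionRing B) ?_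
    rw [map_mul, hc, ← hJ, ← hJ, ← map_mul, IsLocalization.mk'_spec'_mk]
  refine ⟨rM (e.symm c), ?_⟩
  have h1 : (1 : L) ⊗ₜ[E] a = (1 : L) ⊗ₜ[E] b * e.symm c := by
    apply e.injective
    rw [map_mul, e.apply_symm_apply]
    exact hc'
  have h2 : a = b * rM (e.symm c) := by
    rw [← hrM, ← h1]
    simp [rM, hr1]
  rw [IsLocalization.eq_mk'_iff_mul_eq, ← map_mul, mul_comm]
  exact congrArg _ h2.symm

/-- The fraction field is unchanged between a domain and an intermediate birational domain. -/
theorem isFractionRing_of_generators {T M : Type u} [CommRing T] [IsDomain T] [CommRing M] [IsDomain M] [Algebra T M]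
    (hinj : Function.Injective (algebraMap T M)) (G : Set M) (hG : Algebra.adjoin T G = ⊤)
    (hfrac : ∀ g ∈ G, ∃ a b : T, b ≠ 0 ∧ g * algebraMap T M b = algebraMap T M a) :
    IsFractionRing T (FractionRing M) := by
  let F := FractionRing M
  have hTF : Function.Injective (algebraMap T F) := by
    rw [IsScalarTower.algebraMap_eq T M F]
    exact (IsFractionRing.injective M F).comp hinj
  haveI : FaithfulSMul T F := (faithfulSMul_iff_algebraMap_injective T F).2 hTF
  let S : Subfield F := Subfield.closure (Set.range (algebraMap T F))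
  have hM : ∀ m : M, algebraMap M F m ∈ S := fun m => by
    have hm : m ∈ Algebra.adjoin T G := hG ▸ Algebra.mem_top
    induction hm using Algebra.adjoin_induction with
    | mem g hg =>
      obtain ⟨a, b, hb, hab⟩ := hfrac g hg
      have : algebraMap M F g = algebraMap T F a / algebraMap T F b := by
        rw [eq_div_iff (fun h => hb (hTF (h.trans (map_zero _).symm))), IsScalarTower.algebraMap_apply T M F a,
          IsScalarTower.algebraMap_apply T M F b, ← map_mul, hab]
      rw [this]
      exact S.div_mem (Subfield.subset_closure ⟨a, rfl⟩) (Subfield.subset_closure ⟨b, rfl⟩)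
    | algebraMap r => exact Subfield.subset_closure ⟨r, IsScalarTower.algebraMap_apply T M F r⟩
    | add x y _ _ hx hy => rw [map_add]; exact S.add_mem hx hy
    | mul x y _ _ hx hy => rw [map_mul]; exact S.mul_mem hx hy
  refine IsFractionRing.of_field _ _ fun w => ?_
  obtain ⟨a, b, -, rfl⟩ := IsFractionRing.div_surjective (A := M) w
  obtain ⟨y, hy, z, hz, hyz⟩ := Subfield.mem_closure_iff.1 (S.div_mem (hM a) (hM b))
  have hr : Subring.closure (Set.range (algebraMap T F)) ≤ (algebraMap T F).range :=
    Subring.closure_le.2 fun _ h => h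
  obtain ⟨y', rfl⟩ := hr hy
  obtain ⟨z', rfl⟩ := hr hz
  exact ⟨y', z', hyz.symm⟩

end Groth.Agent.H06Curve130
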