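import Groth.Agent.H06Curve130.Affine
import Groth.Agent.H22Alg.NormalizationDimOne
import Groth.Agent.H8Props.Reduced
import Groth.Prelude.Def_Curv2
import Mathlib

/-!
# Smooth normalization after a finite purely inseparable extension
-/

set_option autoImplicit false
set_option linter.style.haveILetI false
set_option backward.isDefEq.respectTransparency false

universe u

open CategoryTheory CategoryTheory.Limits AlgebraicGeometry TensorProduct TopologicalSpace

namespace Groth.Agent.H06Curve130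

variable (k : Type u) [Field k] (X : Scheme.{u}) [X.Over (Spec (CommRingCat.of k))]

theorem isHomeomorph_bcFst (E : Type u) [Field E] [Algebra k E] [IsPurelyInseparable k E] :
    IsHomeomorph (Curv2.bcFst k X E) := by
  let σ := Spec.map (CommRingCat.ofHom (algebraMap k E))
  haveI : IsIntegralHom σ := by
    rw [IsIntegralHom.SpecMap_iff]; exact algebraMap_isIntegral_iff.2 inferInstance
  haveI : UniversallyInjective σ := by
    refine ((tfae_universallyInjective _).out 0 1).2 fun L hL a b hab => ?_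
    letI := hL
    obtain ⟨a, rfl⟩ := Spec.map_surjective a
    obtain ⟨b, rfl⟩ := Spec.map_surjective b
    have hab' : CommRingCat.ofHom (algebraMap k E) ≫ a = CommRingCat.ofHom (algebraMap k E) ≫ b :=
      Spec.map_injective (by rw [Spec.map_comp, Spec.map_comp]; exact hab)
    rw [CommRingCat.hom_ext (IsPurelyInseparable.injective_comp_algebraMap k E L congr(($hab').hom))]
  haveI : Surjective σ := ⟨fun x => ⟨(default : PrimeSpectrum E), Subsingleton.elim (α := PrimeSpectrum k) _ _⟩⟩
  let p := pullback.fst (X ↘ Spec (CommRingCat.of k)) σ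
  haveI : UniversallyInjective p := MorphismProperty.pullback_fst _ _ inferInstance
  haveI : IsIntegralHom p := MorphismProperty.pullback_fst _ _ inferInstance
  haveI : Surjective p := MorphismProperty.pullback_fst _ _ inferInstance
  show IsHomeomorph p
  exact isHomeomorph_iff_continuous_isClosedMap_bijective.2 ⟨p.continuous, p.isClosedMap, p.injective, p.surjective⟩

/-- An affine open of the base change. -/
theorem exists_chart {U : X.Opens} (hU : IsAffineOpen U) [Algebra k Γ(X, U)]
    (halg : Spec.map (CommRingCat.ofHom (algebraMap k Γ(X, U))) = hU.fromSpec ≫ (X ↘ Spec (CommRingCat.of k)))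
    (E : Type u) [Field E] [Algebra k E] :
    ∃ (V : (Curv2.bc k X E).Opens) (_ : IsAffineOpen V) (e : CommRingCat.of (E ⊗[k] Γ(X, U)) ⟶ Γ(Curv2.bc k X E, V)),
      (V : Set (Curv2.bc k X E)) = Curv2.bcFst k X E ⁻¹' (U : Set X) ∧ IsIso e ∧
      CommRingCat.ofHom Algebra.TensorProduct.includeLeftRingHom ≫ e =
        (Scheme.ΓSpecIso (CommRingCat.of E)).inv ≫ (Curv2.bcSnd k X E).appLE ⊤ V le_top := by
  let s := X ↘ Spec (CommRingCat.of k)
  let σ := Spec.map (CommRingCat.ofHom (algebraMap k E))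
  let α := Spec.map (CommRingCat.ofHom (algebraMap k Γ(X, U)))
  let m : pullback σ α ⟶ pullback s σ :=
    (pullbackSymmetry σ α).hom ≫ pullback.map α σ s σ hU.fromSpec (𝟙 _) (𝟙 _) (by rw [Category.comp_id]; exact halg)
      (by simp [σ])
  let c : Spec (CommRingCat.of (E ⊗[k] Γ(X, U))) ⟶ Curv2.bc k X E := (pullbackSpecIso k E Γ(X, U)).inv ≫ m
  haveI : IsOpenImmersion c := by
    haveI : IsOpenImmersion (pullback.map α σ s σ hU.fromSpec (𝟙 _) (𝟙 _) (by rw [Category.comp_id]; exact halg)
      (by simp [σ])) := inferInstance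
    infer_instance
  have hsnd : c ≫ Curv2.bcSnd k X E = Spec.map (CommRingCat.ofHom Algebra.TensorProduct.includeLeftRingHom) := by
    show c ≫ pullback.snd s σ = _
    simp only [c, m, Category.assoc, pullback.lift_snd]
    rw [Category.comp_id, pullbackSymmetry_hom_comp_snd, pullbackSpecIso_inv_fst]
  have hrange : Set.range c = Curv2.bcFst k X E ⁻¹' (U : Set X) := by
    simp only [c, m, Scheme.Hom.comp_base, TopCat.coe_comp, Set.range_comp]
    rw [(Set.range_eq_univ.mpr (Scheme.homeoOfIso (pullbackSpecIso k E Γ(X, U)).symm).surjective :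
        Set.range ⇑(pullbackSpecIso k E Γ(X, U)).inv = Set.univ),
      Set.image_univ, Set.range_comp, (Set.range_eq_univ.mpr (Scheme.homeoOfIso (pullbackSymmetry σ α)).surjective :
        Set.range ⇑(pullbackSymmetry σ α).hom = Set.univ), Set.image_univ, Scheme.Pullback.range_map]
    have h1 : Set.range (𝟙 (Spec (CommRingCat.of E)) : _ ⟶ _) = Set.univ := Set.range_id
    erw [hU.range_fromSpec]
    rw [h1, Set.preimage_univ, Set.inter_univ]
  have hV : IsAffineOpen c.opensRange := isAffineOpen_opensRange c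
  refine ⟨c.opensRange, hV, (Scheme.ΓSpecIso _).inv ≫ (c.appIso ⊤).inv ≫
    (Curv2.bc k X E).presheaf.map (eqToHom (Scheme.Hom.image_top_eq_opensRange c).symm).op, hrange, inferInstance, ?_⟩
  have hiso : ∀ (V' : (Curv2.bc k X E).Opens) (hV' : V' = c ''ᵁ ⊤) (h' : ⊤ ≤ c ⁻¹ᵁ V'),
      IsIso (c.appLE V' ⊤ h') := by
    rintro V' rfl h'
    rw [← Scheme.Hom.appIso_hom' c ⊤]
    infer_instance
  haveI := hiso c.opensRange (Scheme.Hom.image_top_eq_opensRange c).symm (by simp)
  rw [← cancel_mono (c.appLE c.opensRange ⊤ (by simp))]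
  simp only [Category.assoc, Scheme.Hom.appLE_comp_appLE]
  rw [Scheme.Hom.map_appLE, Scheme.Hom.appIso_inv_appLE]
  have h2 : (c ≫ Curv2.bcSnd k X E).appLE ⊤ ⊤ le_top =
      (Spec.map (CommRingCat.ofHom Algebra.TensorProduct.includeLeftRingHom)).appLE ⊤ ⊤ le_top := by
    simp only [hsnd]
  rw [h2, Scheme.Hom.appLE, ← Scheme.ΓSpecIso_inv_naturality_assoc]

/-- The main statement. -/
theorem main [IsIntegral X] [LocallyOfFiniteType (X ↘ Spec (CommRingCat.of k))]
    [QuasiCompact (X ↘ Spec (CommRingCat.of k))] (hdim : topologicalKrullDim X ≤ 1) :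
    ∃ (k' : Type u) (_ : Field k') (_ : Algebra k k'), FiniteDimensional k k' ∧ IsPurelyInseparable k k' ∧
      ∃ (_ : IsIntegral (Curv2.bc k X k').nilradical.subscheme)
        (_ : QuasiCompact ((Curv2.bc k X k').nilradical.subscheme.fromSpecStalk
              (genericPoint (Curv2.bc k X k').nilradical.subscheme)))
        (_ : QuasiSeparated ((Curv2.bc k X k').nilradical.subscheme.fromSpecStalk
              (genericPoint (Curv2.bc k X k').nilradical.subscheme))),
        Smooth (Curv2.normalizationι (Curv2.bc k X k').nilradical.subscheme ≫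
          (Curv2.bc k X k').nilradical.subschemeι ≫ Curv2.bcSnd k X k') := by
  classical
  let s := X ↘ Spec (CommRingCat.of k)
  haveI : CompactSpace X := QuasiCompact.compactSpace_of_compactSpace s
  let L := perfectClosure k (AlgebraicClosure k)
  have hlevel : ∀ x : X, ∃ (U : X.Opens) (hU : IsAffineOpen U) (S : Finset L), x ∈ U ∧
      ∀ (inst : Algebra k Γ(X, U)),
        Spec.map (CommRingCat.ofHom (@algebraMap k Γ(X, U) _ _ inst)) = hU.fromSpec ≫ s →
        ∀ E : IntermediateField k L, (S : Set L) ⊆ E →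
        ∀ (T K : Type u) [CommRing T] [IsDomain T] [Field K] [Algebra T K] [IsFractionRing T K]
          (π : E ⊗[k] Γ(X, U) →+* T), Function.Surjective π → (∀ r, π r = 0 ↔ IsNilpotent r) →
          ((algebraMap T (integralClosure T K)).comp (π.comp Algebra.TensorProduct.includeLeftRingHom)).Smooth := by
    intro x
    obtain ⟨U, hU, hxU, -⟩ := exists_isAffineOpen_mem_and_subset (X := X) (x := x) (U := ⊤) trivial
    haveI : Nonempty U := ⟨⟨x, hxU⟩⟩
    let φ := Spec.preimage (hU.fromSpec ≫ s)
    letI inst₀ : Algebra k Γ(X, U) := φ.hom.toAlgebra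
    haveI : Algebra.FiniteType k Γ(X, U) := by
      have : LocallyOfFiniteType (Spec.map φ) := by rw [Spec.map_preimage]; infer_instance
      exact RingHom.finiteType_algebraMap.mp ((HasRingHomProperty.Spec_iff (P := @LocallyOfFiniteType)).1 this)
    haveI : Ring.KrullDimLE 1 Γ(X, U) := Ring.krullDimLE_iff.2 (by
      rw [← PrimeSpectrum.topologicalKrullDim_eq_ringKrullDim]
      exact (hU.fromSpec.isOpenEmbedding.isInducing.topologicalKrullDim_le).trans hdim)
    obtain ⟨S, hS⟩ := exists_level k Γ(X, U) L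
    refine ⟨U, hU, S, hxU, fun inst hinst => ?_⟩
    have : inst = inst₀ := Algebra.algebra_ext _ _ fun r => by
      have h := Spec.map_injective (hinst.trans (Spec.map_preimage (hU.fromSpec ≫ s)).symm)
      exact congr(($h).hom r)
    subst this
    exact hS
  choose U hU S hxU hS using hlevel
  obtain ⟨F, hF⟩ := isCompact_univ.elim_finite_subcover (fun x => (U x : Set X)) (fun x => (U x).2)
    fun x _ => Set.mem_iUnion.2 ⟨x, hxU x⟩
  let E : IntermediateField k L := IntermediateField.adjoin k ↑(F.biUnion S)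
  haveI : FiniteDimensional k E :=
    IntermediateField.finiteDimensional_adjoin fun l _ => Algebra.IsIntegral.isIntegral l
  haveI : IsPurelyInseparable k E := IsPurelyInseparable.tower_bot k E L
  have hSE : ∀ i ∈ F, (S i : Set L) ⊆ E := fun i hi l hl =>
    IntermediateField.subset_adjoin k _ (Finset.mem_biUnion.2 ⟨i, hi, hl⟩)
  let Y := Curv2.bc k X E
  let Z := Y.nilradical.subscheme
  let ι := Y.nilradical.subschemeι
  have hhom := isHomeomorph_bcFst k X E
  haveI : IsReduced Z := H8Props.isReduced_nilradical_subscheme Y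
  have hιsurj : Function.Surjective ι := fun y => by
    have : y ∈ Set.range ι := by
      rw [Scheme.IdealSheafData.range_subschemeι, Scheme.support_nilradical]; trivial
    exact this
  have hιh : IsHomeomorph ι := isHomeomorph_iff_isEmbedding_surjective.2 ⟨ι.isEmbedding, hιsurj⟩
  have hZX := hhom.comp hιh
  haveI : IrreducibleSpace Z :=
    Function.Surjective.irreducibleSpace hZX.homeomorph.symm.continuous hZX.homeomorph.symm.surjective
  haveI : IsIntegral Z := isIntegral_of_irreducibleSpace_of_isReduced Z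
  haveI : LocallyOfFiniteType (Curv2.bcSnd k X E) := MorphismProperty.pullback_snd _ _ inferInstance
  haveI : IsLocallyNoetherian Y := LocallyOfFiniteType.isLocallyNoetherian (Curv2.bcSnd k X E)
  haveI : IsLocallyNoetherian Z := LocallyOfFiniteType.isLocallyNoetherian ι
  haveI hqc : QuasiCompact (Z.fromSpecStalk (genericPoint Z)) := inferInstance
  haveI hqs : QuasiSeparated (Z.fromSpecStalk (genericPoint Z)) := inferInstance
  refine ⟨E, inferInstance, inferInstance, inferInstance, inferInstance, inferInstance, hqc, hqs, ?_⟩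
  let nι := Curv2.normalizationι Z
  let h := nι ≫ ι ≫ Curv2.bcSnd k X E
  haveI : IsIntegralHom nι := H22Alg.NormalizationDimOne.isIntegralHom_normalizationι Z
  let A : ∀ x : X, Algebra k Γ(X, U x) := fun x => (Spec.preimage ((hU x).fromSpec ≫ s)).hom.toAlgebra
  have hA : ∀ x, Spec.map (CommRingCat.ofHom (@algebraMap k Γ(X, U x) _ _ (A x))) = (hU x).fromSpec ≫ s :=
    fun x => Spec.map_preimage _
  choose V hV e hVU he hew using fun x : X => (letI := A x; exists_chart k X (hU x) (hA x) E)
  refine HasRingHomProperty.of_iSup_eq_top (P := @Smooth)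
    (fun i : F => (⟨nι ⁻¹ᵁ (ι ⁻¹ᵁ V i.1), ((hV i.1).preimage ι).preimage nι⟩ : (Curv2.normalization Z).affineOpens))
    ?_ fun i => ?_
  · refine Opens.ext (Set.eq_univ_of_forall fun z => ?_)
    obtain ⟨i, hi, hz⟩ := Set.mem_iUnion₂.1 (hF (Set.mem_univ (Curv2.bcFst k X E (ι (nι z)))))
    rw [Opens.coe_iSup, Set.mem_iUnion]
    refine ⟨⟨i, hi⟩, ?_⟩
    show ι (nι z) ∈ (V i : Set Y)
    rw [hVU]
    exact hz
  let W : Z.Opens := ι ⁻¹ᵁ V i.1
  have hW : IsAffineOpen W := (hV i.1).preimage ι
  haveI : Nonempty W := by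
    obtain ⟨z, hz⟩ := hZX.surjective i.1
    refine ⟨⟨z, ?_⟩⟩
    show ι z ∈ (V i.1 : Set Y)
    rw [hVU, Set.mem_preimage]
    exact (show Curv2.bcFst k X E (ι z) = i.1 from hz) ▸ hxU i.1
  letI := A i.1
  haveI := he i.1
  let er : (E ⊗[k] Γ(X, U i.1)) ≃+* Γ(Y, V i.1) := (asIso (e i.1)).commRingCatIsoToRingEquiv
  let π : E ⊗[k] Γ(X, U i.1) →+* Γ(Z, W) := (ι.app (V i.1)).hom.comp er.toRingHom
  have hπ : Function.Surjective π := (ι.app_surjective (V i.1) (hV i.1)).comp er.surjective
  have hπk : ∀ r, π r = 0 ↔ IsNilpotent r := fun r => by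
    have h1 : ι.app (V i.1) = CommRingCat.ofHom (Ideal.Quotient.mk (Y.nilradical.ideal ⟨V i.1, hV i.1⟩)) ≫
        (Y.nilradical.subschemeObjIso ⟨V i.1, hV i.1⟩).inv :=
      Scheme.IdealSheafData.subschemeι_app _ ⟨V i.1, hV i.1⟩
    show (ι.app (V i.1)).hom (er r) = 0 ↔ _
    rw [h1, CommRingCat.comp_apply, map_eq_zero_iff _
      (ConcreteCategory.bijective_of_isIso (Y.nilradical.subschemeObjIso ⟨V i.1, hV i.1⟩).inv).1]
    refine (Ideal.Quotient.eq_zero_iff_mem).trans ?_
    show er r ∈ (⊥ : Ideal Γ(Y, V i.1)).radical ↔ _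
    exact ⟨fun ⟨n, hn⟩ => ⟨n, er.injective (by rw [map_pow, map_zero]; exact hn)⟩,
      fun hn => hn.map er⟩
  haveI := functionField_isFractionRing_of_isAffineOpen Z W hW
  have hsm := hS i.1 (A i.1) (hA i.1) E (hSE i.1 i.2) Γ(Z, W) Z.functionField π hπ hπk
  obtain ⟨φ, hφ⟩ := H22Alg.NormalizationDimOne.exists_obj_iso Z hW
  have hfinal : (h.appLE ⊤ (nι ⁻¹ᵁ W) le_top).hom =
      (φ.toRingHom.comp ((algebraMap Γ(Z, W) (integralClosure Γ(Z, W) Z.functionField)).comp
        (π.comp Algebra.TensorProduct.includeLeftRingHom))).comp (Scheme.ΓSpecIso (CommRingCat.of E)).hom.hom := by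
    have h1 : h.appLE ⊤ (nι ⁻¹ᵁ W) le_top =
        (Curv2.bcSnd k X E).appLE ⊤ (V i.1) le_top ≫ ι.app (V i.1) ≫ nι.app W := by
      rw [Scheme.Hom.app_eq_appLE, Scheme.Hom.app_eq_appLE, Scheme.Hom.appLE_comp_appLE,
        Scheme.Hom.appLE_comp_appLE]
      rfl
    have h2 : (Curv2.bcSnd k X E).appLE ⊤ (V i.1) le_top = (Scheme.ΓSpecIso (CommRingCat.of E)).hom ≫
        CommRingCat.ofHom Algebra.TensorProduct.includeLeftRingHom ≫ e i.1 := by
      rw [hew, Iso.hom_inv_id_assoc]
    rw [h1, h2]
    ext c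
    exact (hφ _).symm
  show RingHom.Smooth (h.appLE ⊤ (nι ⁻¹ᵁ W) le_top).hom
  rw [hfinal]
  exact RingHom.Smooth.respectsIso.2 _ ((Scheme.ΓSpecIso (CommRingCat.of E)).commRingCatIsoToRingEquiv)
    (RingHom.Smooth.respectsIso.1 _ φ hsm)

end Groth.Agent.H06Curve130
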